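import Mathlib

/-!
A subgroup of index equal to the degree of a doubly transitive group: the action on its cosets is
doubly transitive and faithful, with the same fixed point numbers.
-/

set_option autoImplicit false
set_option linter.style.haveILetI false

namespace H64.ONan

open MulAction Matrix Finset

section Orbits

variable {G X : Type*} [Group G] [MulAction G X] [Finite G] [Finite X]

omit [Finite G] [Finite X] in
theorem card_pair_orbits_eq_two [Nontrivial X] (h : MulAction.IsMultiplyPretransitive G X 2) :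
    Nat.card (Quotient (orbitRel G (X × X))) = 2 := by
  haveI := h
  haveI : IsPretransitive G X := isPretransitive_of_is_two_pretransitive
  obtain ⟨a, b, hab⟩ := exists_pair_ne X
  rw [Nat.card_eq_two_iff]
  refine ⟨Quotient.mk'' (a, a), Quotient.mk'' (a, b), fun he => ?_, ?_⟩
  · obtain ⟨g, hg⟩ := Quotient.exact he
    simp only [Prod.smul_mk, Prod.mk.injEq] at hg
    exact hab (smul_left_cancel g (hg.1.trans hg.2.symm))
  · refine Set.eq_univ_of_forall fun q => ?_
    induction q using Quotient.inductionOn' with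
    | h c =>
      rcases eq_or_ne c.1 c.2 with hc | hc
      · left
        obtain ⟨g, hg⟩ := exists_smul_eq G a c.1
        exact Quotient.sound ⟨g, by simp [Prod.ext_iff, hg, ← hc]⟩
      · right
        obtain ⟨g, hg1, hg2⟩ := MulAction.is_two_pretransitive_iff.mp h hab hc
        exact Quotient.sound ⟨g, by simp [hg1, hg2]⟩

omit [Finite G] [Finite X] in
theorem isTwoPretransitive_of_card_pair_orbits [Nontrivial X]
    (h : Nat.card (Quotient (orbitRel G (X × X))) = 2) :
    MulAction.IsMultiplyPretransitive G X 2 := by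
  rw [MulAction.is_two_pretransitive_iff]
  intro a b c d hab hcd
  obtain ⟨u, v, huv, hall⟩ := Nat.card_eq_two_iff.mp h
  have hd : ∀ z w : X, z ≠ w →
      (Quotient.mk'' (z, w) : Quotient (orbitRel G (X × X))) ≠ Quotient.mk'' (a, a) := by
    intro z w hzw he
    obtain ⟨g, hg⟩ := Quotient.exact he
    simp only [Prod.smul_mk, Prod.mk.injEq] at hg
    exact hzw (hg.1.symm.trans hg.2)
  have hcases : ∀ q : Quotient (orbitRel G (X × X)), q = u ∨ q = v := fun q => by
    have : q ∈ ({u, v} : Set _) := hall ▸ Set.mem_univ q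
    simpa using this
  have he : (Quotient.mk'' (c, d) : Quotient (orbitRel G (X × X))) = Quotient.mk'' (a, b) := by
    rcases hcases (Quotient.mk'' (a, a)) with h1 | h1 <;>
      rcases hcases (Quotient.mk'' (a, b)) with h2 | h2 <;>
      rcases hcases (Quotient.mk'' (c, d)) with h3 | h3 <;>
      first
        | exact h3.trans h2.symm
        | exact absurd (h2.trans h1.symm) (hd a b hab)
        | exact absurd (h3.trans h1.symm) (hd c d hcd)
  obtain ⟨g, hg⟩ := Quotient.exact he
  simp only [Prod.smul_mk, Prod.mk.injEq] at hg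
  exact ⟨g, hg.1, hg.2⟩

omit [Finite G] [Finite X] in
theorem card_fixedBy_prod (g : G) :
    Nat.card (fixedBy (X × X) g) = Nat.card (fixedBy X g) * Nat.card (fixedBy X g) := by
  rw [← Nat.card_prod]
  exact Nat.card_congr
    { toFun := fun c => (⟨c.1.1, (Prod.ext_iff.mp c.2).1⟩, ⟨c.1.2, (Prod.ext_iff.mp c.2).2⟩)
      invFun := fun c => ⟨(c.1.1, c.2.1), Prod.ext c.1.2 c.2.2⟩
      left_inv := fun _ => rfl
      right_inv := fun _ => rfl }

variable (G X) in
theorem burnside_pairs [Fintype G] :
    ∑ g : G, Nat.card (fixedBy X g) * Nat.card (fixedBy X g) =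
      Nat.card (Quotient (orbitRel G (X × X))) * Nat.card G := by
  classical
  haveI := Fintype.ofFinite X
  have := MulAction.sum_card_fixedBy_eq_card_orbits_mul_card_group G (X × X)
  simp only [← Nat.card_eq_fintype_card, card_fixedBy_prod] at this
  exact this

end Orbits

section Incidence

variable {G Ω C : Type*} [Group G] [MulAction G Ω] [MulAction G C]

/-- Equal fixed point numbers from an invariant relation whose Gram matrix is invertible. -/
theorem fixedBy_card_eq_of_rel [Fintype Ω] [Fintype C] [DecidableEq Ω] [DecidableEq C]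
    (R : Ω → C → Prop) [DecidableRel R] (hR : ∀ (g : G) ω c, R (g • ω) (g • c) ↔ R ω c)
    (hcard : Fintype.card Ω = Fintype.card C)
    (r l : ℕ) (hlr : l < r)
    (hr : ∀ ω, (univ.filter fun c => R ω c).card = r)
    (hl : ∀ ω ω', ω ≠ ω' → (univ.filter fun c => R ω c ∧ R ω' c).card = l) (g : G) :
    Nat.card (fixedBy Ω g) = Nat.card (fixedBy C g) := by
  let M : Matrix Ω C ℚ := Matrix.of fun ω c => if R ω c then 1 else 0
  have hgram : ∀ ω ω', (M * Mᵀ) ω ω' = if ω = ω' then (r : ℚ) else (l : ℚ) := by
    intro ω ω'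
    rw [Matrix.mul_apply]
    simp only [M, Matrix.transpose_apply, Matrix.of_apply, ← ite_and, mul_ite, mul_one, mul_zero,
      Finset.sum_boole]
    split_ifs with h
    · subst h
      rw [← hr ω]
      simp
    · rw [← hl ω ω' h]
      simp [and_comm]
  have hU : IsUnit (M * Mᵀ) := by
    rw [← Matrix.mulVec_injective_iff_isUnit]
    suffices hker : ∀ v : Ω → ℚ, (M * Mᵀ) *ᵥ v = 0 → v = 0 from fun v w hvw =>
      sub_eq_zero.mp (hker _ (by rw [Matrix.mulVec_sub]; exact sub_eq_zero.mpr hvw))
    intro v hv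
    have h1 : ∀ ω, ((r : ℚ) - l) * v ω + l * ∑ x, v x = 0 := by
      intro ω
      have := congrFun hv ω
      rw [Matrix.mulVec, dotProduct] at this
      simp only [hgram, Pi.zero_apply] at this
      rw [Finset.sum_eq_add_sum_sdiff_singleton_of_mem (Finset.mem_univ ω)] at this
      rw [Finset.sum_congr rfl (g := fun x => (l : ℚ) * v x) (fun x hx => by
        rw [if_neg]; simp only [Finset.mem_sdiff, Finset.mem_singleton] at hx
        exact fun h => hx.2 h.symm), if_pos rfl, ← Finset.mul_sum] at this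
      rw [Finset.sum_eq_add_sum_sdiff_singleton_of_mem (Finset.mem_univ ω) (f := v)]
      linarith
    have hS : ∑ x, v x = 0 := by
      have h2 := Finset.sum_eq_zero (s := (univ : Finset Ω)) fun ω _ => h1 ω
      rw [Finset.sum_add_distrib, ← Finset.mul_sum, Finset.sum_const, nsmul_eq_mul] at h2
      have hpos : (0 : ℚ) < ((r : ℚ) - l) + (Finset.univ : Finset Ω).card * (l : ℚ) := by
        have : (l : ℚ) < r := by exact_mod_cast hlr
        have : (0 : ℚ) ≤ (Finset.univ : Finset Ω).card * (l : ℚ) := by positivity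
        linarith
      refine (mul_eq_zero.mp ?_).resolve_left hpos.ne'
      linarith
    funext ω
    have := h1 ω
    rw [hS, mul_zero, add_zero] at this
    have hne : (r : ℚ) - l ≠ 0 := sub_ne_zero.mpr (by exact_mod_cast hlr.ne')
    exact (mul_eq_zero.mp this).resolve_left hne
  obtain ⟨U, hUeq⟩ := hU
  let N : Matrix C Ω ℚ := Mᵀ * (↑(U⁻¹) : Matrix Ω Ω ℚ)
  have hMN : M * N = 1 := by
    rw [← Matrix.mul_assoc, ← hUeq]
    exact U.mul_inv
  have hNM : N * M = 1 :=
    (Matrix.mul_eq_one_comm_of_equiv (Fintype.equivOfCardEq hcard)).mp hMN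
  let P : Matrix Ω Ω ℚ := Matrix.of fun ω ω' => if g • ω' = ω then 1 else 0
  let Q : Matrix C C ℚ := Matrix.of fun c c' => if g • c' = c then 1 else 0
  have hPM : P * M = M * Q := by
    ext ω c
    rw [Matrix.mul_apply, Matrix.mul_apply,
      Finset.sum_eq_single (g⁻¹ • ω) (fun x _ hx => by
        simp only [P, Matrix.of_apply]
        rw [if_neg (fun h => hx (by rw [← h, inv_smul_smul])), zero_mul])
        (fun h => absurd (Finset.mem_univ _) h),
      Finset.sum_eq_single (g • c) (fun x _ hx => by
        simp only [Q, Matrix.of_apply]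
        rw [if_neg (Ne.symm hx), mul_zero])
        (fun h => absurd (Finset.mem_univ _) h)]
    simp only [P, Q, M, Matrix.of_apply, smul_inv_smul, if_pos, one_mul, mul_one]
    refine if_congr ?_ rfl rfl
    rw [← hR g, smul_inv_smul]
  have htr : P.trace = Q.trace := by
    calc P.trace = (P * (M * N)).trace := by rw [hMN, Matrix.mul_one]
      _ = (M * (Q * N)).trace := by rw [← Matrix.mul_assoc, hPM, Matrix.mul_assoc]
      _ = ((Q * N) * M).trace := Matrix.trace_mul_comm _ _
      _ = Q.trace := by rw [Matrix.mul_assoc, hNM, Matrix.mul_one]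
  simp only [Matrix.trace, Matrix.diag, P, Q, Matrix.of_apply, Finset.sum_boole] at htr
  have htr' := Nat.cast_injective htr
  simpa [Nat.card_eq_fintype_card, Fintype.card_subtype] using htr'

end Incidence

section Transfer

variable {G Ω : Type*} [Group G] [Finite G] [MulAction G Ω] [FaithfulSMul G Ω] [Finite Ω]

/-- Equal fixed point numbers on the points and on the cosets of `H`. -/
theorem fixedBy_cosets (h2 : MulAction.IsMultiplyPretransitive G Ω 2) (H : Subgroup G)
    (hidx : H.index = Nat.card Ω) (hnt : ¬ MulAction.IsPretransitive H Ω) (g : G) :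
    Nat.card (fixedBy Ω g) = Nat.card (fixedBy (G ⧸ H) g) := by
  classical
  haveI := h2
  haveI : IsPretransitive G Ω := isPretransitive_of_is_two_pretransitive
  haveI := Fintype.ofFinite Ω
  haveI := Fintype.ofFinite (G ⧸ H)
  obtain ⟨a, b, hab⟩ : ∃ a b : Ω, b ∉ orbit H a := by
    by_contra hc
    push Not at hc
    exact hnt ⟨fun a b => mem_orbit_iff.mp (hc a b)⟩
  let R : Ω → G ⧸ H → Prop := fun ω c => c.out⁻¹ • ω ∈ orbit H a
  have hR : ∀ (k : G) ω c, R (k • ω) (k • c) ↔ R ω c := by
    intro k ω c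
    obtain ⟨h, hh⟩ : ∃ h : H, (k • c).out = k * c.out * h := by
      obtain ⟨h, hh⟩ := QuotientGroup.mk_out_eq_mul H (k * c.out)
      refine ⟨h, ?_⟩
      rw [← hh]
      congr 1
      conv_lhs => rw [← c.out_eq']
      rfl
    show (k • c).out⁻¹ • k • ω ∈ orbit H a ↔ c.out⁻¹ • ω ∈ orbit H a
    rw [hh, _root_.mul_inv_rev, _root_.mul_inv_rev, mul_smul, mul_smul, inv_smul_smul,
      show (↑h : G)⁻¹ • c.out⁻¹ • ω = (h⁻¹ : H) • (c.out⁻¹ • ω) from rfl]
    constructor
    · intro hm
      have := mem_orbit_of_mem_orbit h hm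
      rwa [smul_inv_smul] at this
    · exact fun hm => mem_orbit_of_mem_orbit (h⁻¹) hm
  let r := (univ.filter fun c => R a c).card
  have hr : ∀ ω, (univ.filter fun c => R ω c).card = r := by
    intro ω
    obtain ⟨k, rfl⟩ := exists_smul_eq G a ω
    exact (Finset.card_equiv (MulAction.toPerm k) fun c => by simp [hR]).symm
  have hab' : a ≠ b := fun h => hab (h ▸ mem_orbit_self a)
  let l := (univ.filter fun c => R a c ∧ R b c).card
  have hl : ∀ ω ω', ω ≠ ω' → (univ.filter fun c => R ω c ∧ R ω' c).card = l := by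
    intro ω ω' hne
    obtain ⟨k, rfl, rfl⟩ := MulAction.is_two_pretransitive_iff.mp h2 hab' hne
    exact (Finset.card_equiv (MulAction.toPerm k) fun c => by simp [hR]).symm
  have hlr : l < r := by
    refine Finset.card_lt_card (Finset.ssubset_iff_subset_ne.mpr
      ⟨Finset.monotone_filter_right _ fun c _ h => h.1, fun he => ?_⟩)
    have hc : ((1 : G) : G ⧸ H) ∈ univ.filter fun c => R a c := by
      obtain ⟨h, hh⟩ := QuotientGroup.mk_out_eq_mul H (1 : G)
      rw [Finset.mem_filter, show R a ((1 : G) : G ⧸ H) ↔ _ from Iff.rfl]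
      refine ⟨Finset.mem_univ _, ?_⟩
      show ((1 : G) : G ⧸ H).out⁻¹ • a ∈ orbit H a
      rw [hh, one_mul]
      exact mem_orbit a (h⁻¹ : H)
    rw [← he, Finset.mem_filter] at hc
    obtain ⟨h, hh⟩ := QuotientGroup.mk_out_eq_mul H (1 : G)
    have h3 : ((1 : G) : G ⧸ H).out⁻¹ • b ∈ orbit H a := hc.2.2
    rw [hh, one_mul] at h3
    have := mem_orbit_of_mem_orbit h h3
    rw [show h • (↑h : G)⁻¹ • b = b from smul_inv_smul (↑h : G) b] at this
    exact hab this
  refine fixedBy_card_eq_of_rel R hR ?_ r l hlr hr hl g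
  rw [← Nat.card_eq_fintype_card, ← Nat.card_eq_fintype_card, ← hidx]
  rfl

/-- The action on the cosets is doubly transitive and faithful. -/
theorem cosets_action (h2 : MulAction.IsMultiplyPretransitive G Ω 2) (H : Subgroup G)
    (hidx : H.index = Nat.card Ω) (hnt : ¬ MulAction.IsPretransitive H Ω) :
    MulAction.IsMultiplyPretransitive G (G ⧸ H) 2 ∧ FaithfulSMul G (G ⧸ H) := by
  haveI := Fintype.ofFinite G
  haveI : Nontrivial Ω := by
    by_contra hc
    haveI := not_nontrivial_iff_subsingleton.mp hc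
    exact hnt ⟨fun a b => ⟨1, Subsingleton.elim _ _⟩⟩
  have hC : Nat.card (G ⧸ H) = Nat.card Ω := hidx
  haveI : Nontrivial (G ⧸ H) := by
    rw [← Finite.one_lt_card_iff_nontrivial, hC]
    exact Finite.one_lt_card
  have hf := fixedBy_cosets h2 H hidx hnt
  refine ⟨isTwoPretransitive_of_card_pair_orbits ?_, faithfulSMul_iff.mpr fun g hg => ?_⟩
  · have e1 := burnside_pairs G Ω
    have e2 := burnside_pairs G (G ⧸ H)
    simp only [hf] at e1
    rw [e1, card_pair_orbits_eq_two h2] at e2
    exact (Nat.eq_of_mul_eq_mul_right Nat.card_pos e2).symm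
  · have h1 : Nat.card (fixedBy (G ⧸ H) g) = Nat.card Ω := by
      rw [← hC]
      exact Nat.card_congr (Equiv.subtypeUnivEquiv fun c => hg c)
    rw [← hf g] at h1
    refine FaithfulSMul.eq_of_smul_eq_smul (α := Ω) fun ω => ?_
    rw [one_smul]
    by_contra hne
    have hlt : (fixedBy Ω g).ncard < (Set.univ : Set Ω).ncard :=
      Set.ncard_lt_ncard ⟨Set.subset_univ _, fun hs => hne (hs (Set.mem_univ ω))⟩
    rw [Set.ncard_univ, ← Nat.card_coe_set_eq, h1] at hlt
    exact lt_irrefl _ hlt

end Transfer

end H64.ONan
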