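import Mathlib
import Cfsg.Agent.H37.Generation

/-!
Recognition of `PSL_n(F)` from a set of permutations realising exactly the transvections of
`ℙ(F^n)`.
-/

set_option autoImplicit false

namespace H64.ONan

open Matrix MulAction
open scoped LinearAlgebra.Projectivization

variable {G Y : Type*} [Group G] [MulAction G Y] {F : Type*} [Field F] {n : ℕ}

/-- `g` acts through `e` as the transvection `u ↦ u + φ u • v`. -/
def ActsAsTransvection (e : Y ≃ ℙ F (Fin n → F)) (g : G) (v : Fin n → F)
    (φ : Module.Dual F (Fin n → F)) : Prop :=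
  ∀ (u : Fin n → F) (hu : u ≠ 0) (y : Y), e y = Projectivization.mk F u hu →
    ∀ hu', e (g • y) = Projectivization.mk F (u + φ u • v) hu'

/-- The transvection as a matrix of determinant one. -/
def tvSL (v : Fin n → F) (φ : Module.Dual F (Fin n → F)) (h : φ v = 0) :
    Matrix.SpecialLinearGroup (Fin n) F :=
  ⟨1 + replicateCol (Fin 1) v * replicateRow (Fin 1) (fun k => φ (Pi.single k 1)), by
    refine (det_one_add_replicateCol_mul_replicateRow (ι := Fin 1) v _).trans ?_
    have : φ v = ∑ k, v k * φ (Pi.single k 1) := by
      conv_lhs => rw [pi_eq_sum_univ' v]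
      simp [map_sum]
    rw [dotProduct, show (∑ k, φ (Pi.single k 1) * v k) = 0 by
      rw [← h, this]; simp [mul_comm], add_zero]⟩

theorem tvSL_smul (v : Fin n → F) (φ : Module.Dual F (Fin n → F)) (h : φ v = 0) (u : Fin n → F) :
    tvSL v φ h • u = u + φ u • v := by
  have hφ : φ u = ∑ k, φ (Pi.single k 1) * u k := by
    conv_lhs => rw [pi_eq_sum_univ' u]
    simp [map_sum, mul_comm]
  funext i
  change ((1 + replicateCol (Fin 1) v * replicateRow (Fin 1) (fun k => φ (Pi.single k 1))) *ᵥ u) i
    = _
  rw [Matrix.add_mulVec, Matrix.one_mulVec, Pi.add_apply, Pi.add_apply, Pi.smul_apply,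
    smul_eq_mul, hφ, Finset.sum_mul]
  congr 1
  simp only [mulVec, dotProduct, Matrix.mul_apply, replicateCol_apply, replicateRow_apply,
    Finset.univ_unique, Finset.sum_singleton]
  exact Finset.sum_congr rfl fun k _ => by ring

variable (e : Y ≃ ℙ F (Fin n → F))

/-- The permutation action transported along `e`. -/
noncomputable def permHom : G →* Equiv.Perm (ℙ F (Fin n → F)) :=
  (Equiv.permCongrHom e).toMonoidHom.comp (MulAction.toPermHom G Y)

theorem permHom_apply (g : G) (y : Y) : permHom e g (e y) = e (g • y) := by
  simp [permHom, Equiv.permCongrHom, Equiv.permCongr_apply]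

theorem permHom_injective [FaithfulSMul G Y] : Function.Injective (permHom (G := G) e) :=
  (Equiv.permCongrHom e).injective.comp MulAction.toPerm_injective

theorem permHom_eq_toPerm {g : G} {v : Fin n → F} {φ : Module.Dual F (Fin n → F)} (h : φ v = 0)
    (hg : ActsAsTransvection e g v φ) :
    permHom e g = Projectivization.PSLAction.toPermHom (tvSL v φ h :
      Matrix.ProjectiveSpecialLinearGroup (Fin n) F) := by
  ext p
  obtain ⟨y, rfl⟩ := e.surjective p
  rw [permHom_apply]
  change _ = (tvSL v φ h) • e y
  have hu : (e y).rep + φ (e y).rep • v ≠ 0 := by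
    intro h0
    have h1 := congrArg φ h0
    rw [map_add, map_smul, h, smul_zero, add_zero, map_zero] at h1
    rw [h1, zero_smul, add_zero] at h0
    exact (e y).rep_nonzero h0
  rw [hg (e y).rep (e y).rep_nonzero y (e y).mk_rep.symm hu]
  conv_rhs => rw [← (e y).mk_rep]
  rw [Projectivization.smul_mk]
  simp only [tvSL_smul]

/-- **Model recognition.** -/
theorem psl_of_model [Fintype F] [FaithfulSMul G Y] (S : Set G)
    (hS : ∀ s ∈ S, ∃ (v : Fin n → F) (φ : Module.Dual F (Fin n → F)),
      φ v = 0 ∧ ActsAsTransvection e s v φ)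
    (hT : ∀ (v : Fin n → F) (φ : Module.Dual F (Fin n → F)), φ v = 0 →
      ∃ s ∈ S, ActsAsTransvection e s v φ) :
    Nonempty (↥(Subgroup.closure S) ≃* Matrix.ProjectiveSpecialLinearGroup (Fin n) F) ∧
      (n ≠ 0 → Nat.card Y * (Fintype.card F - 1) = Fintype.card F ^ n - 1) := by
  refine ⟨?_, fun _ => ?_⟩
  · let f := permHom (G := G) e
    let P := Projectivization.PSLAction.toPermHom (ι := Fin n) (K := F)
    have hrange : (Subgroup.closure S).map f = P.range := by
      apply le_antisymm
      · rw [Subgroup.map_le_iff_le_comap, Subgroup.closure_le]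
        intro s hs
        obtain ⟨v, φ, h, hg⟩ := hS s hs
        exact ⟨_, (permHom_eq_toPerm e h hg).symm⟩
      · rintro _ ⟨g, rfl⟩
        obtain ⟨a, rfl⟩ := QuotientGroup.mk_surjective g
        refine H37.SL_transvection_induction (fun a => P a ∈ (Subgroup.closure S).map f)
          ?_ (fun i j hij c => ?_) (fun A B hA hB => ?_) a
        · rw [QuotientGroup.mk_one, map_one]; exact one_mem _
        · let φ : Module.Dual F (Fin n → F) := LinearMap.proj j
          have h : φ (Pi.single i c) = 0 := by simp [φ, hij.symm]
          obtain ⟨s, hs, hg⟩ := hT _ φ h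
          have he : tvSL (Pi.single i c) φ h = Matrix.SpecialLinearGroup.transvection hij c := by
            refine H37.SL_ext_smul fun u => ?_
            rw [tvSL_smul, H37.transvection_smul]
            congr 1
            rw [← Pi.single_smul]
            simp [φ, mul_comm]
          exact ⟨s, Subgroup.subset_closure hs, by
            rw [← he]; exact permHom_eq_toPerm e h hg⟩
        · rw [QuotientGroup.mk_mul, map_mul]; exact mul_mem hA hB
    exact ⟨((Subgroup.closure S).equivMapOfInjective f (permHom_injective e)).trans
      ((MulEquiv.subgroupCongr hrange).trans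
        (MonoidHom.ofInjective Matrix.ProjectiveSpecialLinearGroup.toPermHom_injective).symm)⟩
  · have := Projectivization.card (k := F) (V := Fin n → F)
    rw [Nat.card_congr e, ← Nat.card_eq_fintype_card, ← this, Nat.card_fun, Nat.card_fin]

end H64.ONan
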