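import Mathlib
import Cfsg.Agent.H13.ONan.Setup
import Cfsg.Agent.H24.Fischer.SimpleNormal
import Cfsg.Agent.H37.Generation
import Cfsg.Agent.H64.ONan.Cosets

/-!
From the hypotheses of the statements about doubly transitive groups to O'Nan's configuration.
-/

set_option autoImplicit false
set_option linter.style.haveILetI false

namespace H64.ONan

open MulAction

universe u v

/-- The conclusion of O'Nan's theorem. -/
def MainConcl (G : Type u) (X : Type v) [Group G] [MulAction G X] : Prop :=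
  ∃ (L : Subgroup G) (F : Type) (_ : Field F) (_ : Fintype F) (n : ℕ), 3 ≤ n ∧ L.Normal ∧
    Subgroup.centralizer (L : Set G) = ⊥ ∧
    Nonempty (↥L ≃* Matrix.ProjectiveSpecialLinearGroup (Fin n) F) ∧
    Nat.card X * (Fintype.card F - 1) = Fintype.card F ^ n - 1

variable {G : Type u} {X : Type v} [Group G] [MulAction G X]

/-- The conjugate of `M` attached to the point `z`. -/
def pointGroup (x : X) (M : Subgroup G) (z : X) : Subgroup G where
  carrier := {a | ∀ g : G, g • x = z → g⁻¹ * a * g ∈ M}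
  one_mem' g _ := by simp
  mul_mem' := fun {a b} ha hb g hg => by
    simpa [mul_assoc] using mul_mem (ha g hg) (hb g hg)
  inv_mem' := fun {a} ha g hg => by simpa [mul_assoc] using inv_mem (ha g hg)

theorem mem_pointGroup {x : X} {M : Subgroup G} {z : X} {a : G} :
    a ∈ pointGroup x M z ↔ ∀ g : G, g • x = z → g⁻¹ * a * g ∈ M := Iff.rfl

/-- An abelian normal subgroup of a point stabilizer which is not semiregular on the other points
gives a configuration. -/
theorem exists_conf [Finite G] [Finite X] [FaithfulSMul G X]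
    (h2 : MulAction.IsMultiplyPretransitive G X 2) (x : X) (N : Subgroup G)
    (hNle : N ≤ stabilizer G x) (hNn : ∀ g ∈ stabilizer G x, ∀ n ∈ N, g * n * g⁻¹ ∈ N)
    (hNab : ∀ a ∈ N, ∀ b ∈ N, a * b = b * a)
    (hnsr : ∃ n ∈ N, n ≠ 1 ∧ ∃ y : X, y ≠ x ∧ n • y = y) :
    ∃ p : ℕ, p.Prime ∧ Nonempty (H13.ONan.Conf G X p) := by
  haveI := h2
  haveI : IsPretransitive G X := isPretransitive_of_is_two_pretransitive
  have htr : ∀ {a b c d : X}, a ≠ b → c ≠ d → ∃ g : G, g • a = c ∧ g • b = d :=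
    fun hab hcd => MulAction.is_two_pretransitive_iff.mp h2 hab hcd
  obtain ⟨n, hn, hn1, y, hyx, hny⟩ := hnsr
  obtain ⟨p, hp, hpd⟩ := Nat.exists_prime_and_dvd
    (show orderOf n ≠ 1 from fun h => hn1 (orderOf_eq_one_iff.mp h))
  have hd : orderOf n / p ∣ orderOf n := Nat.div_dvd_of_dvd hpd
  have hd0 : orderOf n / p ≠ 0 := fun h =>
    (orderOf_pos n).ne' (by simpa [h] using (Nat.div_mul_cancel hpd).symm)
  set m := n ^ (orderOf n / p) with hm
  have hmo : orderOf m = p := by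
    rw [hm, orderOf_pow_of_dvd hd0 hd, Nat.div_div_self hpd (orderOf_pos n).ne']
  let M : Subgroup G :=
    { carrier := {a | a ∈ N ∧ a ^ p = 1}
      one_mem' := ⟨one_mem _, one_pow _⟩
      mul_mem' := fun {a b} ha hb =>
        ⟨mul_mem ha.1 hb.1, by
          rw [(show Commute a b from hNab a ha.1 b hb.1).mul_pow, ha.2, hb.2, one_mul]⟩
      inv_mem' := fun {a} ha => ⟨inv_mem ha.1, by rw [inv_pow, ha.2, inv_one]⟩ }
  have hMn : ∀ g : G, g • x = x → ∀ a ∈ M, g * a * g⁻¹ ∈ M := fun g hg a ha =>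
    ⟨hNn g hg a ha.1, by rw [conj_pow, ha.2, mul_one, mul_inv_cancel]⟩
  have hmM : m ∈ M := ⟨pow_mem hn _, by rw [← hmo, pow_orderOf_eq_one]⟩
  have hmy : m • y = y := by
    have h1 : n ^ (orderOf n / p) ∈ stabilizer G y := pow_mem (mem_stabilizer_iff.mpr hny) _
    exact h1
  refine ⟨p, hp, ⟨{
    A := pointGroup x M
    conj_mem := fun g z a ha k hk => ?_
    fix := fun z a ha => ?_
    comm := fun z a ha b hb => ?_
    exp := fun z a ha => ?_
    nsr := fun z w hzw => ?_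
    faithful := fun g hg => FaithfulSMul.eq_of_smul_eq_smul (α := X) fun z => by
      rw [hg z, one_smul]
    trans := fun a b c d hab hcd => htr hab hcd
    fin := inferInstance
    finX := inferInstance }⟩⟩
  · have := ha (g⁻¹ * k) (by rw [mul_smul, hk, inv_smul_smul])
    simpa [mul_assoc] using this
  · obtain ⟨g, hg⟩ := exists_smul_eq G x z
    have h1 : (g⁻¹ * a * g) • x = x := hNle (ha g hg).1
    rwa [mul_smul, mul_smul, hg, inv_smul_eq_iff, hg] at h1
  · obtain ⟨g, hg⟩ := exists_smul_eq G x z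
    have := hNab _ (ha g hg).1 _ (hb g hg).1
    exact mul_right_cancel (b := g) (by simpa [mul_assoc] using this)
  · obtain ⟨g, hg⟩ := exists_smul_eq G x z
    have h1 : (g⁻¹ * a * g⁻¹⁻¹) ^ p = 1 := by rw [inv_inv]; exact (ha g hg).2
    rwa [conj_pow, mul_inv_eq_one, mul_eq_left] at h1
  · obtain ⟨g, hgx, hgy⟩ := htr (Ne.symm hyx) hzw
    refine ⟨g * m * g⁻¹, fun k hk => ?_, fun h => ?_, ?_⟩
    · have h1 := hMn (k⁻¹ * g) (by rw [mul_smul, hgx, ← hk, inv_smul_smul]) m hmM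
      simpa [mul_assoc] using h1
    · rw [mul_inv_eq_one, mul_eq_left] at h
      rw [h, orderOf_one] at hmo
      exact hp.one_lt.ne hmo
    · rw [← hgy, mul_smul, mul_smul, inv_smul_smul, hmy]

/-- The subgroup of the main conclusion is the generalized Fitting subgroup. -/
theorem MainConcl.gfs [Finite G] (h : MainConcl G X) :
    ∃ (F : Type) (_ : Field F) (_ : Fintype F) (n : ℕ), 3 ≤ n ∧
      Nonempty (↥(Cfsg.generalizedFittingSubgroup G) ≃*
        Matrix.ProjectiveSpecialLinearGroup (Fin n) F) := by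
  obtain ⟨L, F, _, _, n, hn, hL, hC, ⟨e⟩, -⟩ := h
  haveI := hL
  haveI : IsSimpleGroup (Matrix.ProjectiveSpecialLinearGroup (Fin n) F) :=
    H37.isSimpleGroup_PSL (by simpa using hn)
  haveI : IsSimpleGroup L := e.isSimpleGroup
  have hna : ¬ IsMulCommutative L := by
    intro hc
    have hle : L ≤ Subgroup.centralizer (L : Set G) := fun a ha b hb =>
      congrArg Subtype.val (hc.is_comm.comm (⟨b, hb⟩ : L) ⟨a, ha⟩)
    rw [hC, le_bot_iff] at hle
    haveI : Nontrivial L := IsSimpleGroup.toNontrivial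
    exact (Subgroup.nontrivial_iff_ne_bot L).mp inferInstance hle
  refine ⟨F, inferInstance, inferInstance, n, hn, ?_⟩
  rw [H24.Fischer.gfs_eq_of_simple_normal L hna hC]
  exact ⟨e⟩

/-- The main conclusion in the form used for groups with a subgroup of index the degree. -/
theorem MainConcl.transfer {Ω : Type*} (h : MainConcl G X) (hc : Nat.card X = Nat.card Ω) :
    ∃ (m : ℕ) (F : Type) (_ : Field F) (_ : Fintype F), 2 ≤ m ∧
      Nat.card Ω = (Fintype.card F ^ (m + 1) - 1) / (Fintype.card F - 1) ∧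
      ∃ N : Subgroup G, N.Normal ∧
        Nonempty (N ≃* Matrix.ProjectiveSpecialLinearGroup (Fin (m + 1)) F) ∧
        Subgroup.centralizer (N : Set G) = ⊥ := by
  obtain ⟨L, F, _, _, n, hn, hL, hC, he, hX⟩ := h
  obtain ⟨m, rfl⟩ : ∃ m, n = m + 1 := ⟨n - 1, by omega⟩
  refine ⟨m, F, inferInstance, inferInstance, by omega, ?_, L, hL, he, hC⟩
  have := Fintype.one_lt_card (α := F)
  rw [← hX, hc, Nat.mul_div_cancel _ (by omega)]

section Subgroups

variable {Ω : Type v} [Finite G] [MulAction G Ω] [FaithfulSMul G Ω] [Finite Ω]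

/-- A subgroup of index the degree with an abelian normal subgroup fixing two points gives a
configuration on its cosets. -/
theorem exists_conf_cosets (h2 : MulAction.IsMultiplyPretransitive G Ω 2) (H : Subgroup G)
    (hidx : H.index = Nat.card Ω) (hnt : ¬ MulAction.IsPretransitive H Ω) (A : Subgroup G)
    (hAH : A ≤ H) (hAn : ∀ h ∈ H, ∀ a ∈ A, h * a * h⁻¹ ∈ A)
    (hAab : ∀ a ∈ A, ∀ b ∈ A, a * b = b * a) (hA1 : A ≠ ⊥) {w w' : Ω} (hww' : w ≠ w')
    (hw : ∀ a ∈ A, a • w = w) (hw' : ∀ a ∈ A, a • w' = w') :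
    ∃ p : ℕ, p.Prime ∧ Nonempty (H13.ONan.Conf G (G ⧸ H) p) := by
  obtain ⟨h2', hfs⟩ := cosets_action h2 H hidx hnt
  haveI := hfs
  haveI : Nontrivial A := (Subgroup.nontrivial_iff_ne_bot A).mpr hA1
  obtain ⟨⟨n, hn⟩, hn1⟩ := exists_ne (1 : A)
  have hn1' : n ≠ 1 := fun h => hn1 (Subtype.ext h)
  have hst : stabilizer G ((1 : G) : G ⧸ H) = H := stabilizer_quotient H
  refine exists_conf h2' ((1 : G) : G ⧸ H) A (by rwa [hst]) (by rwa [hst]) hAab
    ⟨n, hn, hn1', ?_⟩
  have hbase : ((1 : G) : G ⧸ H) ∈ fixedBy (G ⧸ H) n := by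
    rw [mem_fixedBy, ← mem_stabilizer_iff, hst]; exact hAH hn
  have hcard : 1 < Nat.card (fixedBy (G ⧸ H) n) := by
    rw [← fixedBy_cosets h2 H hidx hnt n]
    exact Finite.one_lt_card_iff_nontrivial.mpr
      ⟨⟨⟨w, hw n hn⟩, ⟨w', hw' n hn⟩, fun h => hww' (congrArg Subtype.val h)⟩⟩
  haveI := Finite.one_lt_card_iff_nontrivial.mp hcard
  obtain ⟨⟨y, hy⟩, hyne⟩ := exists_ne (⟨_, hbase⟩ : fixedBy (G ⧸ H) n)
  exact ⟨y, fun h => hyne (Subtype.ext h), hy⟩

/-- The configuration of a subgroup of index the degree with a solvable normal subgroup fixing a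
point. -/
theorem exists_conf_solvable (h2 : MulAction.IsMultiplyPretransitive G Ω 2) (H : Subgroup G)
    (hidx : H.index = Nat.card Ω) (hnt : ¬ MulAction.IsPretransitive H Ω)
    (hfix : ∀ a : Ω, ∃ h : H, h • a ≠ a) (N : Subgroup H) (hN : N.Normal) (hN1 : N ≠ ⊥)
    (hsol : Group.IsSolvable N) (hNfix : ∃ a : Ω, ∀ x ∈ N, x • a = a) :
    ∃ p : ℕ, p.Prime ∧ Nonempty (H13.ONan.Conf G (G ⧸ H) p) := by
  classical
  haveI := hN
  obtain ⟨a, ha⟩ := hNfix
  obtain ⟨n0, hn0⟩ := hsol.solvable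
  have hex : ∃ k, derivedSeries N k = ⊥ := ⟨n0, hn0⟩
  have hk0 : Nat.find hex ≠ 0 := by
    intro h
    have h1 := Nat.find_spec hex
    rw [h, derivedSeries_zero] at h1
    haveI : Nontrivial N := (Subgroup.nontrivial_iff_ne_bot N).mpr hN1
    exact top_ne_bot h1
  obtain ⟨k, hk⟩ : ∃ k, Nat.find hex = k + 1 := ⟨Nat.find hex - 1, by omega⟩
  let D : Subgroup H := (derivedSeries N k).map N.subtype
  have hDn : D.Normal := by
    haveI : (derivedSeries N k).Characteristic := derivedSeries_characteristic _ _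
    exact ConjAct.normal_of_characteristic_of_normal
  have hab : ∀ u ∈ derivedSeries N k, ∀ v ∈ derivedSeries N k, u * v = v * u := by
    have h1 := Nat.find_spec hex
    rw [hk, derivedSeries_succ, Subgroup.commutator_eq_bot_iff_le_centralizer] at h1
    exact fun u hu v hv => (Subgroup.mem_centralizer_iff.mp (h1 hv) u hu)
  obtain ⟨h, hh⟩ := hfix a
  refine exists_conf_cosets h2 H hidx hnt (D.map H.subtype) ?_ ?_ ?_ ?_ hh.symm ?_ ?_
  · rintro _ ⟨d, -, rfl⟩; exact d.2
  · rintro g hg _ ⟨d, hd, rfl⟩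
    exact ⟨⟨g, hg⟩ * d * ⟨g, hg⟩⁻¹, hDn.conj_mem d hd ⟨g, hg⟩, rfl⟩
  · rintro _ ⟨_, ⟨u, hu, rfl⟩, rfl⟩ _ ⟨_, ⟨v, hv, rfl⟩, rfl⟩
    rw [← map_mul, ← map_mul, ← map_mul, ← map_mul, hab u hu v hv]
  · intro h0
    rw [Subgroup.map_eq_bot_iff_of_injective _ H.subtype_injective,
      Subgroup.map_eq_bot_iff_of_injective _ N.subtype_injective] at h0
    exact Nat.find_min hex (by omega : k < Nat.find hex) h0
  · rintro _ ⟨_, ⟨u, -, rfl⟩, rfl⟩
    exact ha _ u.2
  · rintro _ ⟨d, hd, rfl⟩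
    obtain ⟨u, -, hu⟩ := hDn.conj_mem d hd h⁻¹
    have h1 : (h⁻¹ * d * h⁻¹⁻¹) • a = a := by
      rw [← hu]; exact ha _ u.2
    rw [inv_inv, mul_smul, mul_smul, inv_smul_eq_iff] at h1
    exact h1

end Subgroups

end H64.ONan
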